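import Cfsg.Agent.SM.Sp.Glue
import Cfsg.Agent.S0017
import Cfsg.Agent.S0144
import Cfsg.Agent.S0665

/-!
# SM (S3570), sporadic socles: point stabilisers of order `2 ^ a * q` (helper74)

* `stq`, `st` : `Lc U V` and `|V| = 2 ^ a * q` force the index to be odd or prime to `q`;
* `nilFi22`.
-/

set_option autoImplicit false

namespace Cfsg.Agent.SM.SpC

open Cfsg Subgroup Cfsg.Agent.SM.Sp

/-- an automorphism which fixes the image of `S` fixes the image of a characteristic subgroup -/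
theorem char_map {S X : Type} [Group S] [Group X] (f : S →* X) (hf : Function.Injective f) {W : Subgroup S}
    (hW : W.Characteristic) (ψ : X ≃* X) (hψ : ∀ x, x ∈ f.range ↔ ψ x ∈ f.range) : ∀ x ∈ W.map f, ψ x ∈ W.map f := by
  rintro _ ⟨w, hw, rfl⟩
  let e : S ≃* f.range := MonoidHom.ofInjective hf
  let χ : f.range ≃* f.range :=
    { toFun := fun v => ⟨ψ v, (hψ v).1 v.2⟩
      invFun := fun v => ⟨ψ.symm v, (hψ _).2 (by rw [ψ.apply_symm_apply]; exact v.2)⟩
      left_inv := fun v => Subtype.ext (ψ.symm_apply_apply v)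
      right_inv := fun v => Subtype.ext (ψ.apply_symm_apply v)
      map_mul' := fun v w => Subtype.ext (map_mul ψ (v : X) w) }
  refine ⟨e.symm (χ (e w)), characteristic_iff_le_comap.1 hW ((e.trans χ).trans e.symm) hw, ?_⟩
  exact congrArg Subtype.val (e.apply_symm_apply (χ (e w)))

theorem st_top {G : Type} [Group G] [Finite G] {V : Subgroup G} (h : Lc ⊤ V) {a q : ℕ} (hq : q.Prime) (hq2 : q ≠ 2)
    (hq3 : q ≠ 3) (hc : Nat.card V = 2 ^ a * q) (h2 : 2 ∣ V.index) (h5 : q ∣ V.index) : False := by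
  have := Fact.mk hq
  have hs : Group.IsSolvable V := S0144.result 2 q a 1 Nat.prime_two hq (by rw [hc, pow_one])
  have hn2 : ¬ q ∣ 2 ^ a := fun hd => hq2 ((Nat.prime_dvd_prime_iff_eq hq Nat.prime_two).1 (hq.dvd_of_dvd_pow hd))
  have hn3 : ¬ 2 ∣ q := fun hd => hq2 ((Nat.prime_dvd_prime_iff_eq Nat.prime_two hq).1 hd).symm
  have hn : ∀ N : Subgroup V, N.Normal → Nat.card N ≠ q := fun N hN hNq => by
    have h1 := (Rd.core h hq one_pos hn2 (by rw [hc, pow_one, mul_comm]) N (by rw [hNq, pow_one]) hN).2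
    rw [Nat.mod_eq_zero_of_dvd h5] at h1
    exact zero_ne_one h1
  have hO : pPrimeCore 2 V = ⊥ := by
    rw [pPrimeCore, sSup_eq_bot]
    rintro N ⟨hN, hco⟩
    have h1 : Nat.card N ∣ q := (Nat.Coprime.pow_right a hco).dvd_of_dvd_mul_left (hc ▸ N.card_subgroup_dvd_card)
    exact card_eq_one.1 (((Nat.dvd_prime hq).1 h1).resolve_right (hn N hN))
  have hC := S0017.result 2 hO
  have ha : a ≠ 0 := by
    rintro rfl
    exact hn ⊤ inferInstance (by rw [card_top, hc, pow_zero, one_mul])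
  obtain ⟨R, hR, -, -, -⟩ := Rd.exists_syl hn3 hc
  have : Nontrivial R := Finite.one_lt_card_iff_nontrivial.1 (hR ▸ Nat.one_lt_pow ha one_lt_two)
  obtain ⟨W, hW, hWc, hWn⟩ := S0665.result (S := R) R.isPGroup'
  have hN : (W.map (R : Subgroup V).subtype).Normal := by
    refine hWn V _ (subtype_injective _) ⟨R, (range_subtype _).symm⟩ ?_ hC
    rintro ⟨K, L, hL, ⟨e⟩⟩
    have h1 : Nat.card (K ⧸ L.subgroupOf K) = 24 := by
      rw [Nat.card_congr e.toEquiv, Nat.card_eq_fintype_card, Fintype.card_perm, Fintype.card_fin]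
      rfl
    have h3 : 3 ∣ 2 ^ a * q := by
      rw [← hc]
      refine Dvd.dvd.trans ?_ K.card_subgroup_dvd_card
      refine Dvd.dvd.trans ?_ (L.subgroupOf K).card_quotient_dvd_card
      rw [h1]
      norm_num
    rcases Nat.prime_three.dvd_mul.1 h3 with h4 | h4
    · exact absurd (Nat.prime_three.dvd_of_dvd_pow h4) (by norm_num)
    · exact hq3 ((Nat.prime_dvd_prime_iff_eq Nat.prime_three hq).1 h4).symm
  have hch : (W.map (R : Subgroup V).subtype).Characteristic := by
    rw [characteristic_iff_le_comap]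
    intro φ x hx
    obtain ⟨g, hg⟩ := MulAction.exists_smul_eq V ((φ : MulAut V) • R) R
    rw [Sylow.smul_def, ← mul_smul] at hg
    have h1 := char_map _ (subtype_injective _) hWc (MulAut.conj g * φ : MulAut V) (fun y => by
      rw [range_subtype]
      conv_rhs => rw [← hg]
      exact (smul_mem_pointwise_smul_iff (a := (MulAut.conj g * φ : MulAut V))).symm) x hx
    have h3 := hN.conj_mem _ h1 g⁻¹
    simpa [mul_assoc] using h3
  have hne : W.map (R : Subgroup V).subtype ≠ ⊥ := fun h0 => hW ((map_eq_bot_iff_of_injective _ (subtype_injective _)).1 h0)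
  let f : R →* G := V.subtype.comp (R : Subgroup V).subtype
  have hf : Function.Injective f := V.subtype_injective.comp (subtype_injective _)
  have hle : normalizer (f.range : Set G) ≤ V := by
    intro x hx
    refine h _ hch hne ⟨mem_top x, ?_⟩
    rw [map_map]
    have h1 : ∀ x ∈ normalizer (f.range : Set G), ∀ y ∈ W.map f, x * y * x⁻¹ ∈ W.map f := fun x hx =>
      char_map f hf hWc (MulAut.conj x) (mem_normalizer_iff.1 hx)
    refine mem_normalizer_iff.2 fun y => ⟨h1 x hx y, fun hy => ?_⟩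
    have h3 := h1 x⁻¹ (inv_mem hx) _ hy
    rwa [show x⁻¹ * (x * y * x⁻¹) * x⁻¹⁻¹ = y by group] at h3
  have hcf : Nat.card f.range = 2 ^ a := (Nat.card_congr (MonoidHom.ofInjective hf).toEquiv).symm.trans hR
  have h1 : 2 ^ (a + 1) ∣ Nat.card G := by
    rw [← V.card_mul_index, hc, pow_succ, mul_assoc]
    exact mul_dvd_mul_left _ (h2.mul_left q)
  have h3 := (Sylow.prime_pow_dvd_card_normalizer h1 hcf).trans (card_dvd_of_le hle)
  rw [hc, pow_succ] at h3
  exact hn3 (Nat.dvd_of_mul_dvd_mul_left (pow_pos two_pos a) h3)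

/-- **Stellmacher's characteristic subgroup** : `|V| = 2 ^ a * q`, `q ≥ 5` prime -/
theorem stq {K : Type} [Group K] [Finite K] {U V : Subgroup K} (hle : V ≤ U) (h : Lc U V) {a q : ℕ} (hq : q.Prime)
    (hq2 : q ≠ 2) (hq3 : q ≠ 3) (hc : Nat.card V = 2 ^ a * q) (h2 : 2 ∣ V.relIndex U) (h5 : q ∣ V.relIndex U) :
    False := by
  have h1 := Rd.lc_sub h hle
  rw [subgroupOf_self] at h1
  exact st_top h1 hq hq2 hq3 ((Nat.card_congr (subgroupOfEquivOfLe hle).toEquiv).trans hc) h2 h5

theorem st {K : Type} [Group K] [Finite K] {U V : Subgroup K} (hle : V ≤ U) (h : Lc U V) {a : ℕ}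
    (hc : Nat.card V = 2 ^ a * 5) (h2 : 2 ∣ V.relIndex U) (h5 : 5 ∣ V.relIndex U) : False :=
  stq hle h Nat.prime_five (by norm_num) (by norm_num) hc h2 h5

/-- the same inside a factorisation -/
theorem st_fa {K : Type} [Group K] [Finite K] {X Y : Subgroup K} (h : Fa X Y) {a : ℕ}
    (hc : Nat.card X = 2 ^ a * 5 * Y.index) (h10 : 10 ∣ Y.index) : False := by
  have h1 : (X ⊓ Y).relIndex X = Y.index := by rw [inf_relIndex_left, h.pd.relIndex]
  refine st inf_le_left h.lcX (a := a) ?_ (h1 ▸ Dvd.dvd.trans (by norm_num) h10) (h1 ▸ Dvd.dvd.trans (by norm_num) h10)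
  exact Nat.eq_of_mul_eq_mul_right (Nat.pos_of_ne_zero index_ne_zero_of_finite) (h.pd.card_left.trans hc)

/-- **no row for `Fi22`** -/
theorem nilFi22 (h : ∀ (K : Type) [Group K] [Finite K], Spor.IsoFi22 K → Lst K [(17971200, 3510)]) : Nil fFi22 := by
  refine nil_of fun K _ _ hK X Y hF => ?_
  have h1 := h K hK X Y hF
  rw [List.mem_singleton, Prod.mk.injEq] at h1
  exact (st_fa hF (a := 10) (by rw [h1.1, h1.2]; norm_num) (by rw [h1.2]; norm_num)).elim

end Cfsg.Agent.SM.SpC
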