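import Cfsg.Agent.SM.Sp.Red
import Cfsg.Agent.H212.SuzFive.Row
import Cfsg.Agent.TAB.Suz.Main
import Cfsg.Agent.SP.NegS.Gen2
import Cfsg.Agent.Lib.Cores
import Cfsg.Agent.Transfer.PGroupNormal

/-!
# SM (S3570), socle `Suz`: the rows with `|X| = 251596800` and `|X ⊓ Y| = 1080, 180, 90` (helper21)

`Y` has an abelian normal subgroup `E` of order 243, `O_3(X ⊓ Y)` is generated by an element `z` of `E` of the class 3A,
and `C_X(z)` is too large.
-/

set_option autoImplicit false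
set_option maxRecDepth 100000

namespace Cfsg.Agent.SM.SpC.Sz

open Cfsg Subgroup Cfsg.Agent.SM.Sp Cfsg.Agent.H940.Eng Cfsg.Agent.H714.S8.SuzFam Cfsg.Agent.TID.Suz
open Cfsg.Spor (Suz)

theorem cardS : Nat.card Suz = 448345497600 := SporadicRecognition.SuzOrder.card_Suz

theorem cent11 (y : Suz) (h : orderOf y = 11) : Nat.card (centralizer ({y} : Set Suz)) = 11 := by
  have h1 := (H212.SuzFive.data11 (R := zpowers y) (by rw [Nat.card_zpowers, h])).1
  rwa [H904.SylOne.centralizer_zpowers_eq] at h1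

theorem card243 {Y N : Subgroup Suz} (hY : Nat.card Y ∣ 1924560) (h11 : 11 ∣ Nat.card Y) (hle : N ≤ Y)
    (hn : Y ≤ normalizer (N : Set Suz)) (h : ¬ 11 ∣ Nat.card N) (hne : N ≠ ⊥) : Nat.card N = 243 := by
  have := H212.SuzFive.fin
  have hd : Nat.card N ∣ 1924560 := (card_dvd_of_le hle).trans hY
  have key : ∀ p : ℕ, p.Prime → p ≠ 11 → ∀ b : ℕ, ¬ p ^ b ∣ 1924560 →
      ∃ a < b, a = (Nat.card N).factorization p ∧ p ^ a ≡ 1 [MOD 11] := fun p hp hp' b hb =>
    ⟨_, lt_of_not_ge fun h1 => hb ((pow_dvd_pow p h1).trans ((Nat.ordProj_dvd _ p).trans hd)), rfl,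
      SP.NegS.sylow_cong hle hn (by norm_num) hp hp' h11 h cent11⟩
  have h0 : Nat.card N ≠ 0 := Nat.card_pos.ne'
  have h2 : ¬ 2 ∣ Nat.card N := fun h2 => by
    obtain ⟨a, h3, h4, h5⟩ := key 2 Nat.prime_two (by norm_num) 5 (by norm_num)
    have h6 := (Nat.prime_two.dvd_iff_one_le_factorization h0).1 h2
    rw [← h4] at h6
    interval_cases a <;> exact absurd h5 (by decide)
  have h5 : ¬ 5 ∣ Nat.card N := fun h2 => by
    obtain ⟨a, h3, h4, h5⟩ := key 5 Nat.prime_five (by norm_num) 2 (by norm_num)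
    have h6 := (Nat.prime_five.dvd_iff_one_le_factorization h0).1 h2
    rw [← h4] at h6
    interval_cases a
    exact absurd h5 (by decide)
  have h3 : Nat.card N ∣ 3 ^ 7 := by
    refine ((Nat.Prime.coprime_iff_not_dvd (p := 11) (by norm_num)).2 h).symm.dvd_of_dvd_mul_left ?_
    refine (Nat.prime_five.coprime_iff_not_dvd.2 h5).symm.dvd_of_dvd_mul_left ?_
    exact ((Nat.prime_two.coprime_iff_not_dvd.2 h2).symm.pow_right 4).dvd_of_dvd_mul_left hd
  obtain ⟨k, -, hk⟩ := (Nat.dvd_prime_pow Nat.prime_three).1 h3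
  obtain ⟨a, h6, h7, h8⟩ := key 3 Nat.prime_three (by norm_num) 8 (by norm_num)
  rw [hk, Nat.prime_three.factorization_pow, Finsupp.single_eq_same] at h7
  subst h7
  have h9 : a ≠ 0 := fun e => hne (card_eq_one.1 (by rw [hk, e, pow_zero]))
  rw [hk]
  interval_cases a <;> first | rfl | exact absurd rfl h9 | exact absurd h8 (by decide)

theorem exists_E (B : Base) {Y : Subgroup Suz}
    (hY : Nat.card Y = 1924560 ∨ Nat.card Y = 320760 ∨ Nat.card Y = 160380) :
    ∃ E ≤ Y, Y ≤ normalizer (E : Set Suz) ∧ Nat.card E = 243 ∧ ∀ a ∈ E, ∀ b ∈ E, a * b = b * a := by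
  have := H212.SuzFive.fin
  have : Fact (Nat.Prime 11) := ⟨by norm_num⟩
  have : Fact (Nat.Prime 3) := ⟨Nat.prime_three⟩
  have hd : Nat.card Y ∣ 1924560 := by rcases hY with h | h | h <;> rw [h] <;> norm_num
  have h11 : 11 ∣ Nat.card Y := by rcases hY with h | h | h <;> rw [h] <;> norm_num
  by_cases hno : ∀ N : Subgroup Y, N.Normal → ¬ 11 ∣ Nat.card N → N = ⊥
  · exfalso
    obtain ⟨x, hx⟩ := exists_prime_orderOf_dvd_card' 11 h11
    have hR : Nat.card (zpowers x) = 11 := by rw [Nat.card_zpowers, hx]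
    obtain ⟨s, ν, t, h1, h2, ⟨ν', rfl⟩, -, -, h3⟩ :=
      struct_top (by norm_num) (fun h => absurd (h.trans hd) (by norm_num)) hno _ hR
    have h4 : 11 * ν' * t ∣ 110 := by
      rw [← h2, ← card_map_of_injective Y.subtype_injective, ← (H212.SuzFive.data11 (R := (zpowers x).map Y.subtype)
        (by rw [card_map_of_injective Y.subtype_injective, hR])).2]
      exact card_dvd_of_le (le_normalizer_map _)
    have h5 : t < 11 := by
      rw [mul_assoc, show 110 = 11 * 10 from rfl] at h4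
      exact Nat.lt_succ_of_le (Nat.le_of_dvd (by norm_num)
        ((Dvd.intro_left _ rfl).trans (Nat.dvd_of_mul_dvd_mul_left (by norm_num) h4)))
    have h6 : s ∈ 11 :: D.o_suz := by
      rcases h3 with rfl | ⟨S, _, _, h6, h7, rfl⟩
      · exact List.mem_cons_self
      · exact List.mem_cons_of_mem _ (D.ords_suz B S h6 h7
          ((Dvd.intro _ h1.symm).trans (H212.SuzFive.card ▸ card_subgroup_dvd_card Y)))
    have h7 : ∀ s ∈ 11 :: D.o_suz, ∀ t < 11, ¬ (s * t = 1924560 ∨ s * t = 320760 ∨ s * t = 160380) := by decide +kernel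
    exact h7 s h6 t h5 (h1 ▸ hY)
  push Not at hno
  obtain ⟨N, hN, h1, h2⟩ := hno
  have key : ∀ N : Subgroup Y, N.Normal → ¬ 11 ∣ Nat.card N → N ≠ ⊥ →
      Y ≤ normalizer (N.map Y.subtype : Set Suz) ∧ Nat.card (N.map Y.subtype) = 243 := fun N hN h1 h2 => by
    have h3 : Y ≤ normalizer (N.map Y.subtype : Set Suz) := fun v hv =>
      le_normalizer_map Y.subtype ⟨⟨v, hv⟩, (normalizer_eq_top_iff.2 hN).symm ▸ mem_top _, rfl⟩
    exact ⟨h3, card243 hd h11 (map_subtype_le _) h3 (by rwa [card_map_of_injective Y.subtype_injective])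
      fun h => h2 ((map_eq_bot_iff_of_injective _ Y.subtype_injective).1 h)⟩
  have h3 := (key N hN h1 h2).2
  rw [card_map_of_injective Y.subtype_injective] at h3
  have : Nontrivial N := (nontrivial_iff_ne_bot N).2 h2
  have h4 : Nontrivial (center N) := (IsPGroup.of_card (p := 3) (n := 5) h3).center_nontrivial
  obtain ⟨h5, h6⟩ := key ((center N).map N.subtype) inferInstance
    (fun h => h1 (h.trans (card_dvd_of_le (map_subtype_le _))))
    fun h => (nontrivial_iff_ne_bot _).1 h4 ((map_eq_bot_iff_of_injective _ N.subtype_injective).1 h)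
  refine ⟨_, map_subtype_le _, h5, h6, ?_⟩
  rintro _ ⟨_, ⟨a, -, rfl⟩, rfl⟩ _ ⟨_, ⟨b, hb, rfl⟩, rfl⟩
  exact congrArg (fun w : N => ((w : Y) : Suz)) (mem_center_iff.1 hb a)

theorem cls {z u : Suz} (hz : orderOf z = 3) (hu : orderOf u = 5) (hc : Commute z u)
    (h : 243 ∣ Nat.card (centralizer ({z} : Set Suz))) :
    9797760 ≤ Nat.card (centralizer ({z} : Set Suz)) ∧ Nat.card (centralizer ({z * u} : Set Suz)) ∣ 30 := by
  have := H212.SuzFive.fin
  have h5 : 5 ∣ Nat.card (centralizer ({z} : Set Suz)) :=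
    hu ▸ orderOf_dvd_natCard _ (mem_centralizer_singleton_iff.2 hc.symm)
  have h1 := cent_mul z
  have h2 : fam z = 36 := by
    rcases fam_three hz with h2 | h2 | h2
    · rw [h2, show SZ.getD 4 0 = 12812800 from rfl] at h1
      omega
    · rw [h2, show SZ.getD 6 0 = 138378240 from rfl] at h1
      omega
    · exact h2
  rw [h2, show SZ.getD 36 0 = 45760 from rfl] at h1
  refine ⟨by omega, ?_⟩
  have h3 : orderOf (z * u) = 15 := by
    rw [hc.orderOf_mul_eq_mul_orderOf_of_coprime (by rw [hz, hu]; norm_num), hz, hu]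
  have h4 : (z * u) ^ 10 = z := by
    rw [hc.mul_pow, show 10 = 3 * 3 + 1 from rfl, pow_succ, pow_mul, show z ^ 3 = 1 from hz ▸ pow_orderOf_eq_one z,
      show 3 * 3 + 1 = 5 * 2 from rfl, pow_mul, show u ^ 5 = 1 from hu ▸ pow_orderOf_eq_one u, one_pow, one_pow, one_mul,
      mul_one]
  have h6 := TAB.Sz.td.pow (z * u) 10
  rw [h4, TAB.Sz.td_ty, TAB.Sz.td_ty, h2] at h6
  rw [TAB.Sz.fam_ord] at h3
  have h7 : ∀ i < 37, TAB.Sz.dat.ord (TAB.Sz.sw i) = 15 → TAB.Sz.sw 36 = TAB.Sz.dat.pwf (TAB.Sz.sw i) 10 → i = 13 := by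
    decide +kernel
  have h8 := cent_mul (z * u)
  rw [h7 _ (fam_lt _) h3 h6, show SZ.getD 13 0 = 29889699840 from rfl] at h8
  have h9 : Nat.card (centralizer ({z * u} : Set Suz)) = 15 ∨ Nat.card (centralizer ({z * u} : Set Suz)) = 30 := by omega
  rcases h9 with h9 | h9 <;> rw [h9]
  norm_num

theorem core (B : Base) {X Y : Subgroup Suz} (f : Fa X Y) (hX : Nat.card X = 251596800)
    (hY : Y.index = 232960 ∨ Y.index = 1397760 ∨ Y.index = 2795520) : False := by
  have := H212.SuzFive.fin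
  have : Fact (Nat.Prime 3) := ⟨Nat.prime_three⟩
  have : Fact (Nat.Prime 5) := ⟨Nat.prime_five⟩
  have h1 := f.pd.card_left
  have h2 := Y.card_mul_index
  have h3 := X.card_mul_index
  rw [cardS] at h2 h3
  rw [hX] at h1 h3
  set A := X ⊓ Y with hA
  have h4 : (Nat.card A = 1080 ∧ Nat.card Y = 1924560) ∨ (Nat.card A = 180 ∧ Nat.card Y = 320760) ∨
      (Nat.card A = 90 ∧ Nat.card Y = 160380) := by
    rcases hY with h | h | h <;> rw [h] at h1 h2 <;> omega
  obtain ⟨E, hE, hEn, hEc, hEa⟩ := exists_E B (Y := Y) (by omega)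
  have hAY : A ≤ Y := inf_le_right
  have hDn : (E.subgroupOf A).Normal := ⟨fun e he a => (mem_normalizer_iff.1 (hEn (hAY a.2)) e).1 he⟩
  have hD : E.subgroupOf A ≠ ⊥ := fun h => by
    have : (E.subgroupOf Y).Normal := ⟨fun e he a => (mem_normalizer_iff.1 (hEn a.2) e).1 he⟩
    have h5 := card_sup_mul_card_inf (E.subgroupOf Y) (A.subgroupOf Y)
    have h6 : E.subgroupOf Y ⊓ A.subgroupOf Y = ⊥ := by
      rw [eq_bot_iff]
      intro x hx
      have h7 : (⟨x, hx.2⟩ : A) ∈ E.subgroupOf A := hx.1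
      rw [h, mem_bot] at h7
      exact mem_bot.2 (Subtype.ext (congrArg Subtype.val h7 :))
    rw [h6, card_bot, mul_one, Nat.card_congr (subgroupOfEquivOfLe hE).toEquiv,
      Nat.card_congr (subgroupOfEquivOfLe hAY).toEquiv, hEc] at h5
    have h7 := card_subgroup_dvd_card (E.subgroupOf Y ⊔ A.subgroupOf Y)
    rw [h5] at h7
    rcases h4 with ⟨h8, h9⟩ | ⟨h8, h9⟩ | ⟨h8, h9⟩ <;> rw [h8, h9] at h7 <;> norm_num at h7
  have hQp := Lib.Cores.pCore_isPGroup (G := A) 3
  have hDQ : E.subgroupOf A ≤ pCore 3 A :=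
    Lib.Cores.le_pCore hDn ((IsPGroup.of_card (p := 3) (n := 5) hEc).comap_of_injective _ A.subtype_injective)
  have : ((E.subgroupOf A).subgroupOf (pCore 3 A)).Normal := hDn.subgroupOf _
  obtain ⟨w, hw1, hw2, hw3⟩ := Transfer.PGroupNormal.exists_mem_inf_center_orderOf hQp
    ((E.subgroupOf A).subgroupOf (pCore 3 A)) fun h => hD ((subgroupOf_eq_bot.1 h).eq_bot_of_le hDQ)
  set z : Suz := ((w : A) : Suz) with hzd
  set Q := (pCore 3 A).map A.subtype with hQd
  have hz : orderOf z = 3 := by rw [hzd, orderOf_coe, orderOf_coe, hw3]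
  have hzE : z ∈ E := hw1
  have hzQ : z ∈ Q := ⟨w, w.2, rfl⟩
  have hQz : ∀ q ∈ Q, q * z = z * q := by
    rintro _ ⟨q, hq, rfl⟩
    exact congrArg (fun v : pCore 3 A => ((v : A) : Suz)) (mem_center_iff.1 hw2 ⟨q, hq⟩)
  obtain ⟨u, hu⟩ := exists_prime_orderOf_dvd_card' (G := A) 5 (by omega)
  have hu' : orderOf (u : Suz) = 5 := by rw [orderOf_coe, hu]
  obtain ⟨k, hk⟩ := IsPGroup.iff_card.1 (hQp.map A.subtype)
  have hk3 : k < 4 := lt_of_not_ge fun h => by
    have h5 : 3 ^ 4 ∣ Nat.card A := (pow_dvd_pow 3 h).trans (hk ▸ card_dvd_of_le (map_subtype_le _))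
    omega
  have hQu : Q ≤ centralizer ({(u : Suz)} : Set Suz) := by
    have h5 := SP.NegS.card_cent_modEq (N := Q) (x := (u : Suz)) (k := 1) Nat.prime_five
      (by rw [pow_one, ← hu', pow_orderOf_eq_one])
      (le_normalizer_map A.subtype ⟨u, (normalizer_eq_top_iff.2 (Lib.Cores.pCore_normal (G := A) 3)).symm ▸ mem_top _, rfl⟩)
    obtain ⟨j, hj, h6⟩ := (Nat.dvd_prime_pow Nat.prime_three).1
      (hk ▸ card_dvd_of_le (inf_le_left : Q ⊓ centralizer ({(u : Suz)} : Set Suz) ≤ Q))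
    have h7 : ∀ k < 4, ∀ j ≤ k, 3 ^ k ≡ 3 ^ j [MOD 5] → k = j := by decide
    rw [hk, h6] at h5
    exact inf_eq_left.1 (eq_of_le_of_card_ge inf_le_left (by rw [hk, h6, h7 k hk3 j hj h5]))
  obtain ⟨h5, h6⟩ := cls hz hu' (mem_centralizer_singleton_iff.1 (hQu hzQ))
    (hEc ▸ card_dvd_of_le fun e he => mem_centralizer_singleton_iff.2 (hEa e he z hzE))
  have h7 : 3 ^ k ∣ 30 := (hk ▸ card_dvd_of_le fun q hq => mem_centralizer_singleton_iff.2 (by
    rw [← mul_assoc, hQz q hq, mul_assoc, mem_centralizer_singleton_iff.1 (hQu hq), mul_assoc])).trans h6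
  have h8 : zpowers z = Q := eq_of_le_of_card_ge (zpowers_le.2 hzQ) (by
    rw [hk, Nat.card_zpowers, hz]
    interval_cases k <;> omega)
  have h9 : X ⊓ centralizer ({z} : Set Suz) ≤ A := fun c hc =>
    f.lcX _ (Lib.Cores.pCore_characteristic 3) (fun h => hD (le_bot_iff.1 (h ▸ hDQ))) ⟨hc.1, by
      have h10 := hc.2
      rw [← H904.SylOne.centralizer_zpowers_eq, h8] at h10
      exact centralizer_le_normalizer _ h10⟩
  have h10 := card_le_of_le h9
  have h11 := (X.subgroupOf (centralizer ({z} : Set Suz))).card_mul_index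
  have h12 : (X.subgroupOf (centralizer ({z} : Set Suz))).index ≤ 1782 := by
    have h13 := relIndex_le_of_le_right (H := X) (le_top (a := centralizer ({z} : Set Suz)))
      (by rw [relIndex_top_right]; exact index_ne_zero_of_finite)
    rw [relIndex_top_right] at h13
    exact h13.trans (by omega)
  rw [← inf_subgroupOf_right, Nat.card_congr (subgroupOfEquivOfLe inf_le_right).toEquiv, inf_subgroupOf_right] at h11
  have h13 := Nat.mul_le_mul (h10.trans (by omega : Nat.card A ≤ 1080)) h12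
  omega

end Sz

/-- the three rows -/
theorem suz3_of (B : H940.Eng.Base) {K : Type} [Group K] (hK : Spor.IsoSuz K) {X Y : Subgroup K} (f : Sp.Fa X Y)
    (hX : Nat.card X = 251596800) : Y.index ∉ [232960, 1397760, 2795520] := by
  obtain ⟨e⟩ := hK
  intro h
  refine Sz.core B (Sp.Rd.fa_map e f) (by rw [Subgroup.card_map_of_injective e.injective, hX]) ?_
  rw [Subgroup.index_map_of_bijective e.bijective]
  simpa using h

end Cfsg.Agent.SM.SpC
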