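import Cfsg.Agent.SM.SpC.Bt
import Cfsg.Agent.SM.SpC.SuzA
import Cfsg.Agent.SM.Sp.No144

/-!
# SM (S3570): the socle `Suz` is impossible (helper21)
-/

set_option autoImplicit false

namespace Cfsg.Agent.SM.SpC

open Cfsg Subgroup Cfsg.Agent.SM.Sp

theorem suz3 {K : Type} [Group K] (hK : Spor.IsoSuz K) {X Y : Subgroup K} (f : Fa X Y)
    (hX : Nat.card X = 251596800) : Y.index ∉ [232960, 1397760, 2795520] := suz3_of BMx.engBase hK f hX

/-- the index is 144 or the pair is one of the five rows -/
theorem nilSuz' (h : ∀ (K : Type) [Group K] [Finite K], Spor.IsoSuz K → ∀ X Y : Subgroup K, Fa X Y →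
    X.index = 144 ∨ Y.index = 144 ∨ (Nat.card X, Y.index) ∈ [(13685760, 1782), (251596800, 32760), (251596800, 232960),
      (251596800, 1397760), (251596800, 2795520)]) : Nil fSuz := by
  refine nil_of fun K _ _ hK X Y hF => ?_
  exfalso
  rcases h K hK X Y hF with h1 | h1 | h1
  · exact no144 hK X h1
  · exact no144 hK Y h1
  simp only [List.mem_cons, List.not_mem_nil, or_false] at h1
  rcases h1 with h1 | h1 | h1 | h1 | h1
  · exact suz7680 hF (h1 ▸ List.mem_cons_self)
  · exact suz7680 hF (h1 ▸ List.mem_cons_of_mem _ List.mem_cons_self)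
  all_goals
    rw [Prod.mk.injEq] at h1
    exact suz3 hK hF h1.1 (by rw [h1.2]; decide)

theorem nilSuz (h : ∀ (K : Type) [Group K] [Finite K], Spor.IsoSuz K → Lst K [(13685760, 1782), (251596800, 32760),
    (251596800, 232960), (251596800, 1397760), (251596800, 2795520)]) : Nil fSuz :=
  nilSuz' fun K _ _ hK X Y hF => Or.inr (Or.inr (h K hK X Y hF))

end Cfsg.Agent.SM.SpC
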