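import Cfsg.Agent.SM.Sp.Glue
import Cfsg.Agent.TH.Own.AmbCan
import Cfsg.Agent.BMx.Base
import Cfsg.Agent.Lib.Cores

/-!
# SM (S3570), sporadic socles: the Borel–Tits kill (helper39)

* `bt` : `Lc U V`, `U` simple of Lie type in characteristic `p`, `O_p(V) ≠ 1` give that `|U : V|` is prime to `p`;
* `o2_7680` : a group of order `7680` has a non-trivial normal `2`-subgroup;
* `lie_u5`, `lie_g24` : simple groups of order `|U₅(2)|`, `|G₂(4)|` are of Lie type in characteristic two;
* `suz7680` : the two rows of `Suz` with `|X ⊓ Y| = 7680`.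
-/

set_option autoImplicit false

namespace Cfsg.Agent.SM.SpC

open Cfsg Subgroup Cfsg.Agent.SM.Sp

namespace Bt

section

open Cfsg.Agent.H284 Cfsg.Agent.H737.EPO Cfsg.Agent.H424.EPX

/-- Borel–Tits in a parabolic system -/
theorem top {Y : Type} [Group Y] [Finite Y] {p : ℕ} [Fact p.Prime] {I : Type} (S : PSys Y p I) (hc : CanV S)
    {V : Subgroup Y} (h : Lc ⊤ V) (hO : pCore p V ≠ ⊥) : ¬ p ∣ V.index := by
  obtain ⟨Q, hQd⟩ : ∃ Q : Subgroup Y, Q = (pCore p V).map V.subtype := ⟨_, rfl⟩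
  have hQ : IsPGroup p Q := hQd ▸ (Lib.Cores.pCore_isPGroup p).map _
  have hQ1 : Q ≠ ⊥ := fun h0 => hO ((map_eq_bot_iff_of_injective _ V.subtype_injective).1 (hQd ▸ h0))
  have hN : normalizer (Q : Set Y) ≤ V := fun x hx =>
    h _ (Lib.Cores.pCore_characteristic p) hO ⟨mem_top x, hQd ▸ hx⟩
  have hVN : V ≤ normalizer (Q : Set Y) := fun v hv =>
    hQd ▸ le_normalizer_map V.subtype
      ⟨⟨v, hv⟩, (normalizer_eq_top_iff.2 (Lib.Cores.pCore_normal (G := V) p)).ge (mem_top _), rfl⟩
  obtain ⟨J, g, -, h1, h2⟩ := hc Q hQ hQ1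
  have hW : IsPGroup p (cj g (S.V J)) := (S.V_p J).map _
  have hU : cj g (S.V ∅) ≤ normalizer ((cj g (S.V J) : Subgroup Y) : Set Y) :=
    (cj_mono (((S.V_le ∅).trans (S.P_mono (Set.empty_subset J))).trans (S.V_norm J))).trans (le_normalizer_map _)
  generalize cj g (S.V J) = W at h1 h2 hW hU
  have h3 : V ⊓ W ≤ Q := fun x hx => by
    have h4 : (W.subgroupOf V).Normal := ⟨fun w hw v =>
      h2 (MulAut.conj (v : Y)) (fun d hd => (mem_normalizer_iff.1 (hVN v.2) d).1 hd) w hw⟩
    exact hQd ▸ ⟨⟨x, hx.1⟩, Lib.Cores.le_pCore h4 (hW.comap_of_injective _ V.subtype_injective) hx.2, rfl⟩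
  have h4 : W = Q := by
    refine le_antisymm ?_ h1
    by_contra hlt
    have := hW.isNilpotent
    have h5 : Q.subgroupOf W < ⊤ := lt_top_iff_ne_top.2 fun h6 => hlt (subgroupOf_eq_top.1 h6)
    obtain ⟨x, hx, hx'⟩ := SetLike.exists_of_lt (Group.normalizerCondition_of_isNilpotent (Q.subgroupOf W) h5)
    refine hx' (h3 ⟨hN ?_, x.2⟩)
    have h6 := le_normalizer_map W.subtype ⟨x, hx, rfl⟩
    rwa [map_subgroupOf_eq_of_le h1] at h6
  rw [h4] at hU
  let P : Sylow p Y := ⟨S.V ∅, S.U_p, fun {T} hT hle => S.U_max T hle hT⟩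
  intro hd
  refine P.not_dvd_index (hd.trans ((index_dvd_of_le (hU.trans hN)).trans ?_))
  exact (index_map_equiv _ (MulAut.conj g)).dvd

end

theorem core_dvd {G : Type} [Group G] [Finite G] (H : Subgroup G) : H.normalCore.index ∣ H.index.factorial := by
  rw [normalCore_eq_ker, index_ker, index_eq_card, ← Nat.card_perm]
  exact card_subgroup_dvd_card (MulAction.toPermHom G (G ⧸ H)).range

variable {G : Type} [Group G] [Finite G]

/-- normal subgroups of order dividing `2 ^ 9 * r` are small -/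
theorem small (h0 : pCore 2 G = ⊥) (D : Subgroup G) (hD : D.Normal) {r : ℕ} (hd : Nat.card D ∣ 2 ^ 9 * r) (hr : r ≠ 0) :
    Nat.card D ∣ r.factorial := by
  obtain ⟨P⟩ : Nonempty (Sylow 2 D) := inferInstance
  have h1 : pCore 2 D = ⊥ := by
    rw [← map_eq_bot_iff_of_injective _ D.subtype_injective, Lib.Cores.map_subtype_pCore 2 hD, h0, inf_bot_eq]
  have h2 : (P : Subgroup D).normalCore = ⊥ :=
    le_bot_iff.1 (h1 ▸ Lib.Cores.le_pCore inferInstance (P.isPGroup'.to_le (normalCore_le _)))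
  have h3 := core_dvd (P : Subgroup D)
  rw [h2, index_bot] at h3
  refine h3.trans (Nat.factorial_dvd_factorial (Nat.le_of_dvd (Nat.pos_of_ne_zero hr) ?_))
  exact Nat.Coprime.dvd_of_dvd_mul_left
    (((Nat.Prime.coprime_iff_not_dvd Nat.prime_two).2 P.not_dvd_index).symm.pow_right 9) ((index_dvd_card _).trans hd)

/-- a normal Sylow subgroup of prime order has a complement in its centraliser -/
theorem compl {r : ℕ} (hr : r.Prime) (h2 : ¬ r ^ 2 ∣ Nat.card G) (Z : Subgroup G) (hZ : Z.Normal) (hc : Nat.card Z = r) :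
    ∃ D : Subgroup G, D.Normal ∧ (Nat.card D).Coprime r ∧ Nat.card G ∣ r * (r - 1) * Nat.card D := by
  have := Fact.mk hr
  have hcyc : IsCyclic Z := isCyclic_of_prime_card hc
  obtain ⟨C, hC⟩ : ∃ C : Subgroup G, C = (MulAut.conjNormal : G →* MulAut Z).ker := ⟨_, rfl⟩
  have hCn : C.Normal := hC ▸ inferInstance
  have hmem : ∀ g ∈ C, ∀ z ∈ Z, g * z * g⁻¹ = z := fun g hg z hz => by
    rw [hC, MonoidHom.mem_ker] at hg
    exact congrArg Subtype.val (DFunLike.congr_fun hg ⟨z, hz⟩)
  have hi : C.index ∣ r - 1 := by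
    rw [hC, index_ker, ← Nat.totient_prime hr, ← hc, ← IsCyclic.card_mulAut]
    exact card_subgroup_dvd_card _
  have hZC : Z ≤ C := fun z hz => by
    rw [hC, MonoidHom.mem_ker]
    ext w
    have h3 := congrArg Subtype.val ((IsCyclic.isMulCommutative (α := Z)).is_comm.comm ⟨z, hz⟩ w)
    change z * w * z⁻¹ = w
    rw [show z * w = w * z from h3, mul_inv_cancel_right]
  have hc' : Nat.card (Z.subgroupOf C) = r := (Nat.card_congr (subgroupOfEquivOfLe hZC).toEquiv).trans hc
  have hcop : (Nat.card (Z.subgroupOf C)).Coprime (Z.subgroupOf C).index := by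
    rw [hc', Nat.Prime.coprime_iff_not_dvd hr]
    intro h3
    refine h2 (Dvd.dvd.trans ?_ (card_subgroup_dvd_card C))
    rw [← (Z.subgroupOf C).card_mul_index, hc', pow_two]
    exact Nat.mul_dvd_mul_left r h3
  obtain ⟨E, hE⟩ := exists_right_complement'_of_coprime hcop
  have hEn : E.Normal := ⟨fun e he c => by
    obtain ⟨⟨z, f⟩, rfl⟩ := (hE.existsUnique c).exists
    have h3 : (f : C) * e * (f : C)⁻¹ ∈ E := E.mul_mem (E.mul_mem f.2 he) (E.inv_mem f.2)
    have h4 : (z : C) * f * e * ((z : C) * f)⁻¹ = f * e * (f : C)⁻¹ := by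
      have h5 := hmem _ ((f : C) * e * (f : C)⁻¹).2 _ z.2
      have h6 : ((f : C) * e * (f : C)⁻¹) * z * ((f : C) * e * (f : C)⁻¹)⁻¹ = z := Subtype.ext h5
      calc (z : C) * f * e * ((z : C) * f)⁻¹ = z * (f * e * (f : C)⁻¹) * (z : C)⁻¹ := by group
        _ = (f * e * (f : C)⁻¹) * z * (f * e * (f : C)⁻¹)⁻¹ * (f * e * (f : C)⁻¹) * (z : C)⁻¹ := by rw [h6]
        _ = f * e * (f : C)⁻¹ := by group
    exact h4 ▸ h3⟩
  have hEc : (Nat.card E).Coprime r := by
    rw [← hE.symm.index_eq_card, ← hc']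
    exact hcop.symm
  have := Lib.Cores.pPrimeCore_characteristic (G := C) r
  refine ⟨(pPrimeCore r C).map C.subtype, inferInstance, ?_, ?_⟩
  · rw [card_map_of_injective C.subtype_injective]
    exact Lib.Cores.pPrimeCore_coprime r
  · rw [card_map_of_injective C.subtype_injective, ← C.card_mul_index, ← hE.card_mul_card, hc', mul_right_comm]
    exact Nat.mul_dvd_mul (Nat.mul_dvd_mul_left r hi) (card_dvd_of_le (Lib.Cores.le_pPrimeCore hEn hEc))

theorem ords : H940.Eng.Ords.{0} 7680 [60] :=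
  H940.Eng.ords_of BMx.engBase (l := [(2, 9), (3, 1), (5, 1)]) (by decide +kernel) (by decide +kernel)

theorem o2 (hG : Nat.card G = 7680) : pCore 2 G ≠ ⊥ := by
  intro h0
  have f3 : Fact (Nat.Prime 3) := ⟨Nat.prime_three⟩
  have f5 : Fact (Nat.Prime 5) := ⟨Nat.prime_five⟩
  by_cases hK : pPrimeCore 5 G = ⊥
  · have hno : ∀ N : Subgroup G, N.Normal → ¬ 5 ∣ Nat.card N → N = ⊥ := fun N hN h =>
      le_bot_iff.1 (hK ▸ Lib.Cores.le_pPrimeCore hN ((Nat.Prime.coprime_iff_not_dvd Nat.prime_five).2 h).symm)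
    obtain ⟨M, hM, hs, h5⟩ := H940.Eng.exists_simple_normal Nat.prime_five (by rw [hG]; norm_num)
      (by rw [hG]; norm_num) hno
    by_cases hab : ∀ a b : M, a * b = b * a
    · have : IsMulCommutative M := ⟨⟨hab⟩⟩
      have h1 : (Nat.card M).Prime := by
        let : CommGroup M := { (inferInstance : Group M) with mul_comm := hab }
        exact IsSimpleGroup.prime_card
      obtain ⟨D, hD, h2, h3⟩ := compl Nat.prime_five (by rw [hG]; norm_num) M hM
        ((Nat.prime_dvd_prime_iff_eq Nat.prime_five h1).1 h5).symm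
      rw [hno D hD ((Nat.Prime.coprime_iff_not_dvd Nat.prime_five).1 h2.symm), card_bot, hG] at h3
      exact absurd h3 (by norm_num)
    · have hM60 : Nat.card M = 60 := List.mem_singleton.1 (ords M hs hab (hG ▸ card_subgroup_dvd_card M))
      obtain ⟨R, h1, h2, h3, -⟩ := Rd.exists_syl (A := M) (p := 5) (k := 1) (m := 12) (by norm_num) (by rw [hM60]; rfl)
      obtain ⟨H, hH⟩ : ∃ H : Subgroup G, H = normalizer (((R : Subgroup M).map M.subtype : Subgroup G) : Set G) := ⟨_, rfl⟩
      have h4 : H ⊔ M = ⊤ := hH ▸ R.normalizer_sup_eq_top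
      have h6 : H.subgroupOf M = normalizer ((R : Subgroup M) : Set M) := by
        rw [hH, subgroupOf_normalizer_eq (map_subtype_le _)]
        congr 2
        exact comap_map_eq_self_of_injective M.subtype_injective _
      have h7 : H.index = Nat.card (Sylow 5 M) := by
        have h8 : Ex78.Pd M H := fun g => by
          obtain ⟨x, hx, y, hy, e⟩ := mem_sup_of_normal_left.1 ((sup_comm H M ▸ h4).ge (mem_top g))
          exact ⟨x, hx, y, hy, e.symm⟩
        rw [R.card_eq_index_normalizer, ← h8.relIndex]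
        exact congrArg index h6
      have h8 : H.index ≤ 6 := by
        rw [h7]
        have h9 := Nat.le_of_dvd (by norm_num) h2
        generalize Nat.card (Sylow 5 M) = n at h2 h3 h9
        interval_cases n <;> omega
      have h9 := (core_dvd H).trans (Nat.factorial_dvd_factorial h8)
      have h10 : 5 ∣ Nat.card H.normalCore := by
        by_contra h11
        rw [hno _ inferInstance h11, index_bot, hG] at h9
        exact absurd h9 (by decide)
      rcases (inferInstance : (H.normalCore.subgroupOf M).Normal).eq_bot_or_eq_top with h11 | h11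
      · have h12 := H940.Eng.card_sup_mul_card_inf H.normalCore M
        rw [(subgroupOf_eq_bot.1 h11).eq_bot, card_bot, mul_one] at h12
        have h13 : 5 * 5 ∣ Nat.card G := (h12 ▸ Nat.mul_dvd_mul h10 h5 :).trans (card_subgroup_dvd_card _)
        rw [hG] at h13
        exact absurd h13 (by norm_num)
      · have h12 : (R : Subgroup M).Normal := by
          rw [← normalizer_eq_top_iff, ← h6, subgroupOf_eq_top]
          exact (subgroupOf_eq_top.1 h11).trans H.normalCore_le
        rcases h12.eq_bot_or_eq_top with h13 | h13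
        · rw [h13, card_bot] at h1
          exact absurd h1 (by norm_num)
        · rw [h13, card_top, hM60] at h1
          exact absurd h1 (by norm_num)
  · obtain ⟨K, hKd⟩ : ∃ K : Subgroup G, K = pPrimeCore 5 G := ⟨_, rfl⟩
    have hKn : K.Normal := hKd ▸ inferInstance
    have h1 : Nat.card K ∣ 2 ^ 9 * 3 :=
      Nat.Coprime.dvd_of_dvd_mul_right (k := Nat.card K) (n := 5) (hKd ▸ Lib.Cores.pPrimeCore_coprime 5)
        (by rw [show 2 ^ 9 * 3 * 5 = Nat.card G from hG.symm]; exact card_subgroup_dvd_card K)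
    have h2 : Nat.card K ∣ 6 := small h0 K hKn h1 (by norm_num)
    have h3 : ∃ m, m ∣ 2 ∧ Nat.card K = 3 ^ 1 * m := by
      by_cases h4 : 3 ∣ Nat.card K
      · obtain ⟨m, hm⟩ := h4
        exact ⟨m, Nat.dvd_of_mul_dvd_mul_left (k := 3) (by norm_num) (hm ▸ h2), hm⟩
      · exfalso
        have h5 : Nat.card K ∣ 2 ^ 1 :=
          Nat.Coprime.dvd_of_dvd_mul_right (m := 2 ^ 1) ((Nat.Prime.coprime_iff_not_dvd Nat.prime_three).2 h4).symm h2
        obtain ⟨k, -, hk⟩ := (Nat.dvd_prime_pow Nat.prime_two).1 h5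
        exact hK (hKd ▸ le_bot_iff.1 (h0 ▸ Lib.Cores.le_pCore hKn (IsPGroup.of_card hk)))
    obtain ⟨m, hm, h4⟩ := h3
    obtain ⟨R, h5, h6, h7, -⟩ := Rd.exists_syl (A := K) (p := 3) (fun h => absurd (h.trans hm) (by norm_num)) h4
    have h8 : Nat.card (Sylow 3 K) = 1 := by
      rcases (Nat.dvd_prime Nat.prime_two).1 (h6.trans hm) with h | h
      · exact h
      · omega
    have h9 : (R : Subgroup K).Characteristic := R.characteristic_of_normal (Rd.normal_of_card h8 R)
    obtain ⟨D, hD, h10, h11⟩ := compl Nat.prime_three (by rw [hG]; norm_num) ((R : Subgroup K).map K.subtype)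
      inferInstance (by rw [card_map_of_injective K.subtype_injective, h5, pow_one])
    have h12 : Nat.card D ∣ 2 ^ 9 * 5 := Nat.Coprime.dvd_of_dvd_mul_right (n := 3) h10
      (by rw [show 2 ^ 9 * 5 * 3 = Nat.card G from hG.symm]; exact card_subgroup_dvd_card D)
    have h13 := h11.trans (Nat.mul_dvd_mul_left _ (small h0 D hD h12 (by norm_num)))
    rw [hG] at h13
    exact absurd h13 (by decide)

theorem char_two {F : Type} [Field F] [Fintype F] (h : Fintype.card F = 2 ^ 2) : CharP F 2 := charP_of_card_eq_prime_pow h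

end Bt

/-- **Borel–Tits** -/
theorem bt {K : Type} [Group K] [Finite K] {U V : Subgroup K} (hle : V ≤ U) (h : Lc U V) {p : ℕ} [Fact p.Prime]
    (hs : IsSimpleGroup U) (hn : ¬ IsMulCommutative U) (hl : IsLieTypeChar p U) (hO : pCore p V ≠ ⊥) :
    ¬ p ∣ V.relIndex U := by
  have hc : ∃ a b : U, a * b ≠ b * a := by
    by_contra h1
    exact hn ⟨⟨fun a b => by_contra fun h2 => h1 ⟨a, b, h2⟩⟩⟩
  obtain ⟨Y, _, _, I, S, e, hS⟩ := TH.Own.Am.hasCan_of_lie hc hl
  have h1 := Rd.lc_sub h hle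
  rw [subgroupOf_self] at h1
  have h2 := Rd.lc_map e.symm h1
  rw [map_top_of_surjective _ e.symm.surjective] at h2
  have f : V ≃* (V.subgroupOf U).map e.symm.toMonoidHom :=
    (subgroupOfEquivOfLe hle).symm.trans ((V.subgroupOf U).equivMapOfInjective _ e.symm.injective)
  have h3 := Bt.top S hS h2 fun h0 => hO (by
    rw [← Lib.Cores.map_equiv_pCore f p] at h0
    exact (map_eq_bot_iff_of_injective _ f.injective).1 h0)
  rwa [index_map_of_bijective e.symm.bijective] at h3

theorem o2_7680 {V : Type} [Group V] [Finite V] (h : Nat.card V = 7680) : pCore 2 V ≠ ⊥ := Bt.o2 h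

theorem lie_u5 {S : Type} [Group S] [Finite S] (hs : IsSimpleGroup S) (hn : ¬ IsMulCommutative S)
    (h : Nat.card S = 13685760) : IsLieTypeChar 2 S := by
  obtain ⟨g, hg, hr⟩ := OrdDiv.exists_real_filter BMx.engBase.table (BMx.engBase.known S hs) (fun h1 => hn ⟨⟨h1⟩⟩)
    (l := [(2, 10), (3, 5), (5, 1), (11, 1)]) (N := 13685760) (by decide +kernel) h.dvd (fun n => Nat.beq n 13685760)
    (by rw [h]; rfl)
  rw [show (OrdDiv.cands [(2, 10), (3, 5), (5, 1), (11, 1)] 13685760).filter
    (fun g => Nat.beq (OrdDiv.ordN g) 13685760) = [.psu 5 2] by decide +kernel, List.mem_singleton] at hg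
  subst hg
  obtain ⟨F, _, _, hF, e⟩ := hr
  exact Or.inr (Or.inr (Or.inl ⟨F, inferInstance, inferInstance, Bt.char_two hF, 5, 2, hF, by norm_num, by norm_num, e⟩))

theorem lie_g24 {S : Type} [Group S] [Finite S] (hs : IsSimpleGroup S) (hn : ¬ IsMulCommutative S)
    (h : Nat.card S = 251596800) : IsLieTypeChar 2 S := by
  obtain ⟨g, hg, hr⟩ := OrdDiv.exists_real_filter BMx.engBase.table (BMx.engBase.known S hs) (fun h1 => hn ⟨⟨h1⟩⟩)
    (l := [(2, 12), (3, 3), (5, 2), (7, 1), (13, 1)]) (N := 251596800) (by decide +kernel) h.dvd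
    (fun n => Nat.beq n 251596800) (by rw [h]; rfl)
  rw [show (OrdDiv.cands [(2, 12), (3, 3), (5, 2), (7, 1), (13, 1)] 251596800).filter
    (fun g => Nat.beq (OrdDiv.ordN g) 251596800) = [.g2 4] by decide +kernel, List.mem_singleton] at hg
  subst hg
  obtain ⟨F, _, _, hF, e⟩ := hr
  exact Or.inr (Or.inr (Or.inr (Or.inr (Or.inr (Or.inr (Or.inl
    ⟨F, inferInstance, inferInstance, Bt.char_two hF, Or.inl ⟨by rw [hF]; norm_num, e⟩⟩))))))

/-- **the rows with `|X ⊓ Y| = 7680`** -/
theorem suz7680 {K : Type} [Group K] [Finite K] {X Y : Subgroup K} (f : Fa X Y)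
    (h : (Nat.card X, Y.index) ∈ [(13685760, 1782), (251596800, 32760)]) : False := by
  have key : ∀ n : ℕ, Y.index = 2 * n → 0 < n → Nat.card X = 7680 * (2 * n) → IsLieTypeChar 2 X → False :=
    fun n h1 h2 h3 h4 => by
      have h5 := f.pd.card_left
      rw [h1, h3] at h5
      refine bt inf_le_left f.lcX f.simple f.nab h4 (o2_7680 (Nat.eq_of_mul_eq_mul_right (by omega) h5)) ?_
      rw [inf_relIndex_left, f.pd.relIndex, h1]
      exact dvd_mul_right 2 n
  simp only [List.mem_cons, Prod.mk.injEq, List.not_mem_nil, or_false] at h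
  rcases h with ⟨h1, h2⟩ | ⟨h1, h2⟩
  · exact key 891 h2 (by norm_num) h1 (lie_u5 f.simple f.nab h1)
  · exact key 16380 h2 (by norm_num) h1 (lie_g24 f.simple f.nab h1)

end Cfsg.Agent.SM.SpC
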